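import Mathlib.RingTheory.Unramified.LocalStructure
import Mathlib.RingTheory.Kaehler.TensorProduct
import Mathlib.RingTheory.Ideal.Pure
import Mathlib.RingTheory.Flat.Localization
import Mathlib.RingTheory.Flat.Stability
import Mathlib.RingTheory.Etale.Basic
import Mathlib.Algebra.TrivSqZeroExt.Basic

/-!
# A universally injective ring map with etale square is flat
-/

universe u

open TensorProduct

namespace Groth.Agent.PureEtale

variable {A B : Type u} [CommRing A] [CommRing B] [Algebra A B]

/-- universal injectivity for modules follows from that for algebras -/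
theorem module_pure
    (hp : ∀ (A' : Type u) [CommRing A'] [Algebra A A'],
      Function.Injective (Algebra.TensorProduct.includeLeft (R := A) (S := A) (A := A') (B := B)))
    (M : Type u) [AddCommGroup M] [Module A M] (m : M) (h : m ⊗ₜ[A] (1 : B) = 0) : m = 0 := by
  let _ : Module Aᵐᵒᵖ M := Module.compHom M ((RingHom.id A).fromOpposite fun _ _ => mul_comm _ _)
  have : IsCentralScalar A M := ⟨fun _ _ => rfl⟩
  have e : (TrivSqZeroExt.inr m : TrivSqZeroExt A M) ⊗ₜ[A] (1 : B) = 0 := by
    have := congrArg ((TrivSqZeroExt.inrHom A M).rTensor B) h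
    simpa using this
  have := hp (TrivSqZeroExt A M) (a₁ := TrivSqZeroExt.inr m) (a₂ := 0)
    (by simpa using e)
  exact TrivSqZeroExt.inr_injective (this.trans (TrivSqZeroExt.inr_zero A).symm)

theorem finiteType_of_pure
    (hp : ∀ (A' : Type u) [CommRing A'] [Algebra A A'],
      Function.Injective (Algebra.TensorProduct.includeLeft (R := A) (S := A) (A := A') (B := B)))
    [hf : Algebra.FiniteType B (B ⊗[A] B)] : Algebra.FiniteType A B := by
  classical
  obtain ⟨s, hs⟩ := hf.out
  choose t ht using fun x : B ⊗[A] B => TensorProduct.exists_finset x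
  let T : Finset B := s.biUnion fun x => (t x).image Prod.snd
  let B₀ : Subalgebra A B := Algebra.adjoin A (T : Set B)
  refine ⟨⟨T, eq_top_iff.2 fun b _ => ?_⟩⟩
  have key : ∀ z : B ⊗[A] B, z ∈ LinearMap.range (B₀.val.toLinearMap.lTensor B) := by
    intro z
    have hz : z ∈ Algebra.adjoin B (s : Set (B ⊗[A] B)) := hs ▸ Algebra.mem_top
    have : (Algebra.adjoin B (s : Set (B ⊗[A] B))) ≤
        (Algebra.TensorProduct.map (AlgHom.id B B) B₀.val).range := by
      refine Algebra.adjoin_le fun x hx => ?_
      rw [ht x, SetLike.mem_coe]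
      refine sum_mem fun p hp' => ⟨p.1 ⊗ₜ ⟨p.2, Algebra.subset_adjoin ?_⟩, by simp⟩
      exact Finset.mem_biUnion.2 ⟨x, hx, Finset.mem_image_of_mem _ hp'⟩
    obtain ⟨w, hw⟩ := this hz
    refine ⟨w, ?_⟩
    rw [← hw]
    clear hw
    induction w using TensorProduct.induction_on with
    | zero => simp
    | tmul a b => simp
    | add a b ha hb => simp only [map_add, ha, hb]
  have hb := module_pure hp (B ⧸ B₀.toSubmodule) (Submodule.Quotient.mk b) (by
    obtain ⟨w, hw⟩ := key ((1 : B) ⊗ₜ b)
    have h2 : B₀.toSubmodule.mkQ.lTensor B ((1 : B) ⊗ₜ b) = 0 := by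
      rw [← hw, ← LinearMap.comp_apply, ← LinearMap.lTensor_comp]
      have : B₀.toSubmodule.mkQ ∘ₗ B₀.val.toLinearMap = 0 := LinearMap.ext fun x =>
        (Submodule.Quotient.mk_eq_zero _).2 x.2
      simp [this]
    simpa using congrArg (TensorProduct.comm A B (B ⧸ B₀.toSubmodule)) h2)
  exact (Submodule.Quotient.mk_eq_zero _).1 hb

lemma subsingleton_tensor_kaehler (A S T : Type u) [CommRing A] [CommRing S] [CommRing T] [Algebra A S]
    [Algebra A T] [h : Algebra.FormallyUnramified S (S ⊗[A] T)] : Subsingleton (S ⊗[A] Ω[T⁄A]) := by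
  let := Algebra.TensorProduct.rightAlgebra (R := A) (A := S) (B := T)
  have : Subsingleton Ω[(S ⊗[A] T)⁄S] := (Algebra.formallyUnramified_iff _ _).1 h
  exact (KaehlerDifferential.tensorKaehlerEquivBase A S T (S ⊗[A] T)).injective.subsingleton

theorem formallyUnramified_of_pure
    (hp : ∀ (A' : Type u) [CommRing A'] [Algebra A A'],
      Function.Injective (Algebra.TensorProduct.includeLeft (R := A) (S := A) (A := A') (B := B)))
    [Algebra.FormallyUnramified B (B ⊗[A] B)] : Algebra.FormallyUnramified A B := by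
  rw [Algebra.formallyUnramified_iff]
  refine subsingleton_of_forall_eq 0 fun w => module_pure hp Ω[B⁄A] w ?_
  have := subsingleton_tensor_kaehler A B B
  simpa using congrArg (TensorProduct.comm A B Ω[B⁄A]) (Subsingleton.elim ((1 : B) ⊗ₜ[A] w) 0)

/-- a universally injective ring map `A → B` with `B → B ⊗ B` etale is flat -/
theorem flat_of_pure_of_etale
    (hp : ∀ (A' : Type u) [CommRing A'] [Algebra A A'],
      Function.Injective (Algebra.TensorProduct.includeLeft (R := A) (S := A) (A := A') (B := B)))
    [Algebra.Etale B (B ⊗[A] B)] : Module.Flat A B := by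
  have := finiteType_of_pure hp
  have := formallyUnramified_of_pure hp
  have : Algebra.Unramified A B := {}
  choose f hfQ hf using fun Q : PrimeSpectrum B =>
    Algebra.IsUnramifiedAt.exists_hasStandardEtaleSurjectionOn (R := A) Q.asIdeal
  have hspan : Ideal.span (Set.range f) = ⊤ := by
    by_contra h
    obtain ⟨m, hm, hle⟩ := Ideal.exists_le_maximal _ h
    exact hfQ ⟨m, hm.isPrime⟩ (hle (Ideal.subset_span ⟨_, rfl⟩))
  refine Module.flat_of_isLocalized_span (R := A) (S := B) (M := B) (Set.range f) hspan
    (fun r => Localization.Away r.1) (fun r => Algebra.linearMap B (Localization.Away r.1)) ?_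
  rintro ⟨_, Q, rfl⟩
  obtain ⟨P, φ, hφ⟩ := hf Q
  show Module.Flat A (Localization.Away (f Q))
  generalize f Q = g at φ hφ ⊢
  clear hf hspan hfQ f
  let _ := φ.toRingHom.toAlgebra
  have : IsScalarTower A P.Ring (Localization.Away g) := .of_algHom φ
  -- the tensor products
  have : Algebra.Etale B (B ⊗[A] Localization.Away g) := by
    have hM : (Submonoid.powers g).map (Algebra.TensorProduct.includeRight (R := A) (A := B)) =
        Submonoid.powers ((1 : B) ⊗ₜ[A] g) := by simp [Submonoid.map_powers]
    have : IsLocalization ((Submonoid.powers g).map (Algebra.TensorProduct.includeRight (R := A) (A := B)))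
        (Localization.Away ((1 : B) ⊗ₜ[A] g)) := by rw [hM]; infer_instance
    have : Algebra.Etale B (Localization.Away ((1 : B) ⊗ₜ[A] g)) := Algebra.Etale.comp B (B ⊗[A] B) _
    exact Algebra.Etale.of_equiv (IsLocalization.tensorProductEquivOfMapIncludeRight A B (Submonoid.powers g)
      (Localization.Away g) (Localization.Away ((1 : B) ⊗ₜ[A] g))).symm
  let ψ : B ⊗[A] P.Ring →ₐ[B] B ⊗[A] Localization.Away g := Algebra.TensorProduct.map (AlgHom.id B B) φ
  let _ := ψ.toRingHom.toAlgebra
  have : IsScalarTower B (B ⊗[A] P.Ring) (B ⊗[A] Localization.Away g) := .of_algHom ψ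
  have : Algebra.Etale (B ⊗[A] P.Ring) (B ⊗[A] Localization.Away g) := Algebra.Etale.of_restrictScalars B _ _
  have hψ : Function.Surjective ψ := LinearMap.lTensor_surjective B (g := φ.toLinearMap) hφ
  have : (RingHom.ker ψ.toRingHom).Pure :=
    Module.Flat.of_linearEquiv (Ideal.quotientKerAlgEquivOfSurjective (f := Algebra.ofId (B ⊗[A] P.Ring)
      (B ⊗[A] Localization.Away g)) hψ).toLinearEquiv
  have hI : (RingHom.ker φ.toRingHom).Pure := by
    refine Ideal.Pure.of_inf_eq_mul _ fun J _ => le_antisymm (fun x hx => ?_) Ideal.mul_le_inf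
    obtain ⟨hx, hxJ⟩ := hx
    have hx' : (1 : B) ⊗ₜ[A] x ∈ RingHom.ker ψ.toRingHom := by
      rw [RingHom.mem_ker]
      show ψ _ = 0
      rw [Algebra.TensorProduct.map_tmul, show φ x = 0 from hx, tmul_zero]
    obtain ⟨y, hy, hxy⟩ := Ideal.exists_eq_mul_of_pure hx'
    obtain ⟨w, rfl⟩ : y ∈ LinearMap.range (((RingHom.ker φ.toRingHom).restrictScalars A).subtype.lTensor B) := by
      have hex := lTensor_exact B (f := ((RingHom.ker φ.toRingHom).restrictScalars A).subtype)
        (g := φ.toLinearMap) (LinearMap.exact_iff.2 (by ext; simp)) hφ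
      exact (LinearMap.exact_iff.1 hex).le hy
    let Kx : Submodule A P.Ring := (Ideal.span {x} * RingHom.ker φ.toRingHom).restrictScalars A
    have h0 : Kx.mkQ.lTensor B ((1 : B) ⊗ₜ x) = 0 := by
      rw [hxy]
      clear hxy hy hx'
      induction w using TensorProduct.induction_on with
      | zero => rw [map_zero, mul_zero, map_zero]
      | tmul b i =>
        have hxi : x * ((RingHom.ker φ.toRingHom).restrictScalars A).subtype i ∈ Kx :=
          Ideal.mul_mem_mul (Ideal.mem_span_singleton_self x) i.2
        rw [LinearMap.lTensor_tmul, Algebra.TensorProduct.tmul_mul_tmul, LinearMap.lTensor_tmul,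
          Submodule.mkQ_apply, (Submodule.Quotient.mk_eq_zero Kx).2 hxi, tmul_zero]
      | add u v hu hv => simp only [map_add, mul_add, hu, hv, add_zero]
    have h1 := module_pure hp (P.Ring ⧸ Kx) (Kx.mkQ x)
      (by simpa using congrArg (TensorProduct.comm A B _) h0)
    have h2 : x ∈ Ideal.span {x} * RingHom.ker φ.toRingHom := (Submodule.Quotient.mk_eq_zero Kx).1 h1
    refine Ideal.mul_mono_left ((Ideal.span_singleton_le_iff_mem J).2 hxJ) h2 |> fun h => ?_
    rwa [mul_comm]
  have : Module.Flat P.Ring (P.Ring ⧸ RingHom.ker (Algebra.ofId P.Ring (Localization.Away g))) := hI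
  have : Module.Flat P.Ring (Localization.Away g) := Module.Flat.of_linearEquiv
    (Ideal.quotientKerAlgEquivOfSurjective (f := Algebra.ofId P.Ring (Localization.Away g)) hφ).toLinearEquiv.symm
  exact Module.Flat.trans A P.Ring (Localization.Away g)

end Groth.Agent.PureEtale
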